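import Cfsg.Agent.Lib.Schur.PSLThreeFour.CoverData
import Cfsg.Agent.Lib.Sporadic.FieldFour

/-!
Kernel checks on the model of `PSL(3, 4)` and on its three covers.
-/

set_option autoImplicit false
set_option maxRecDepth 100000
set_option maxHeartbeats 0
set_option Elab.async false

namespace CfsgLib.Schur.PSLThreeFour

open CfsgLib.Sporadic CfsgLib.Sporadic.OutCert CfsgLib.SmallGroups

/-- An element of the field by its code. -/
noncomputable def ofN (n : ℕ) : FieldFour := FieldFour.ofCode (Fin.ofNat 4 n)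

/-- The representative vector of a point. -/
noncomputable def vec (i : ℕ) (k : Fin 3) : FieldFour := ofN (lk 2 (lk 6 vecK i) k.val)

/-- The entries of a generator. -/
noncomputable def entF (m : ℕ) (i j : Fin 3) : FieldFour := ofN ((matK.getD m []).getD (3 * i.val + j.val) 0)

/-- A matrix applied to a vector. -/
def mv (M : Fin 3 → Fin 3 → FieldFour) (v : Fin 3 → FieldFour) (i : Fin 3) : FieldFour :=
  M i 0 * v 0 + M i 1 * v 1 + M i 2 * v 2

theorem line_cover : ∀ a b c : FieldFour, (a = 0 ∧ b = 0 ∧ c = 0) ∨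
    ∃ i : Fin 21, ∃ l : FieldFour, l ≠ 0 ∧ l * vec i 0 = a ∧ l * vec i 1 = b ∧ l * vec i 2 = c := by
  decide +kernel

theorem line_unique : ∀ i j : Fin 21, ∀ l : FieldFour, l ≠ 0 →
    (∀ k : Fin 3, vec i k = l * vec j k) → i = j := by decide +kernel

theorem vec_ne : ∀ i : Fin 21, ∃ k : Fin 3, vec i k ≠ 0 := by decide +kernel

theorem ent_det : ∀ m < 2, entF m 0 0 * entF m 1 1 * entF m 2 2 - entF m 0 0 * entF m 1 2 * entF m 2 1 -
    entF m 0 1 * entF m 1 0 * entF m 2 2 + entF m 0 1 * entF m 1 2 * entF m 2 0 +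
    entF m 0 2 * entF m 1 0 * entF m 2 1 - entF m 0 2 * entF m 1 1 * entF m 2 0 = 1 := by decide +kernel

theorem ent_moves : ∀ m < 2, ∀ i : Fin 21, lk 5 (baseK.getD m 0) i < 21 ∧
    ∃ l : FieldFour, l ≠ 0 ∧ ∀ k, mv (entF m) (vec i) k = l * vec (lk 5 (baseK.getD m 0) i) k := by
  decide +kernel

theorem chain_ok : PermChain.check 21 chainL = true ∧
    (chainL.map fun l => l.orb.length).prod = 20160 := by decide +kernel

/-- The image of a point under a word. -/
noncomputable def wordImg (w : List ℕ) (i : ℕ) : ℕ :=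
  List.rec (motive := fun _ => ℕ) i (fun m _ ih => lk 5 (baseK.getD m 0) ih) w

theorem chain_words : chainW.length = lev0.gens.length ∧ ((List.range chainW.length).all fun j =>
    ((chainW.getD j []).all fun m => Nat.blt m 2) &&
      allF (fun i => Nat.beq (wordImg (chainW.getD j []) i)
        (PermChain.get (lev0.gens.getD j (0, 0)).1 i)) 21) = true := by decide +kernel

/-- All checks of a cover. -/
noncomputable def coverOK (C : MonoCover.Cert) : Bool :=
  C.shapeK && C.treeK && C.memK 0 && C.memK 1 && C.goodK 0 && C.goodK 1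

theorem cov3_ok : coverOK covThree = true := by decide +kernel

theorem covA_ok : coverOK covFourA = true := by decide +kernel

theorem covB_ok : coverOK covFourB = true := by decide +kernel

/-- A word with its shifts in the three covers. -/
noncomputable def wordsRel (w s : List ℕ) : Bool :=
  (w.all fun m => Nat.blt m 2) && allF (fun i => Nat.beq (wordImg w i) i) 21 &&
    covThree.relK w (s.getD 0 0) && covFourA.relK w (s.getD 1 0) && covFourB.relK w (s.getD 2 0) &&
    Nat.blt (s.getD 0 0) 3 && Nat.blt (s.getD 1 0) 4 && Nat.blt (s.getD 2 0) 4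

theorem rel_gen : wordsRel (List.replicate 7 0) [0, 0, 0] = true ∧
    wordsRel (List.replicate 5 1) [0, 0, 0] = true := by decide +kernel

theorem rel_z : ∀ j < 2, wordsRel (zW.getD j []) (zS.getD j []) = true := by decide +kernel

theorem z_span : ∀ a : ZMod 3, ∀ b c : ZMod 4, ∃ i j : Fin 12,
    (i.val : ZMod 3) * ((zS.getD 0 []).getD 0 0 : ℕ) + (j.val : ZMod 3) * ((zS.getD 1 []).getD 0 0 : ℕ) = a ∧
    (i.val : ZMod 4) * ((zS.getD 0 []).getD 1 0 : ℕ) + (j.val : ZMod 4) * ((zS.getD 1 []).getD 1 0 : ℕ) = b ∧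
    (i.val : ZMod 4) * ((zS.getD 0 []).getD 2 0 : ℕ) + (j.val : ZMod 4) * ((zS.getD 1 []).getD 2 0 : ℕ) = c := by
  decide +kernel

end CfsgLib.Schur.PSLThreeFour
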