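import Cfsg.Agent.Lib.Schur.TailsBoundTwo

/-!
Machine generated data for the 2-part of the multiplier of `PSL(3, 4)`.
-/

set_option autoImplicit false
set_option maxRecDepth 100000
set_option maxHeartbeats 0

namespace CfsgLib.Schur.PSLThreeFour

/-- A table of elements built from the two generators. -/
def slpTab2 : List ℕ := [
    0x111bcc88068291dae2cc804a96c,
    0xa46632ae047a121538cd61c52,
    0xf33229a38f2596086cd4100883,
    0x54b62653a475be686428320801,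
    0x6395030888c5a9319d24d839e0,
    0xd7c1d29c68c5a922090662a0e0,
    0xd096233ba8a5b0087924680a69,
    0x43c2320b8c9581889b474289ea,
    0x39b5447a6425c5c0394d0a3028,
    0x57a8466ac87724688303394414]

/-- The words building them. -/
def slpW2 : List (List ℕ) := [
    [0, 1, 0, 0, 1, 0, 1, 0, 1, 0, 0, 1, 0, 1],
    [1, 1, 1, 1, 0, 0],
    [0, 1, 1, 0, 0, 1, 0, 0, 1, 1, 0, 0],
    [0, 0, 1, 1, 1, 0, 1, 0, 1, 1, 1, 0, 0, 0],
    [0, 1, 1, 0, 0, 1, 0, 0, 1, 0, 1, 0, 0, 0, 0, 1, 0, 0],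
    [1, 1, 1, 1, 0, 1, 1, 1, 0, 0, 1, 0],
    [1, 0, 1, 0, 0, 1, 1, 0, 1, 0, 1, 0, 0, 0, 0],
    [1, 0, 1, 0, 1, 0, 1, 1, 1, 0, 1, 0, 0, 1, 1, 1]]

/-- The places of the generators of the subgroup. -/
def ids2 : List ℕ := [2, 3, 4, 5, 6, 7]

/-- Those generators. -/
def kk2 : List ℕ := [
    0xf33229a38f2596086cd4100883,
    0x54b62653a475be686428320801,
    0x6395030888c5a9319d24d839e0,
    0xd7c1d29c68c5a922090662a0e0,
    0xd096233ba8a5b0087924680a69,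
    0x43c2320b8c9581889b474289ea]

/-- The places of the fusing elements. -/
def gids2 : List ℕ := [8, 9]

/-- The fusing elements. -/
def gk2 : List ℕ := [
    0x39b5447a6425c5c0394d0a3028,
    0x57a8466ac87724688303394414]

/-- Points telling the elements apart. -/
def pts2 : List ℕ := [0, 1]

/-- Words for all elements. -/
def words2 : List (List ℕ) := [
    [1],
    [1, 3, 4, 5],
    [1, 2, 5],
    [1, 2, 3, 4],
    [],
    [2, 3, 4],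
    [2, 5],
    [3, 4, 5],
    [0, 1],
    [0, 1, 2, 3, 4],
    [0, 1, 3, 4, 5],
    [0, 1, 2, 5],
    [0],
    [0, 2, 5],
    [0, 2, 3, 4],
    [0, 3, 4, 5],
    [0, 1, 2],
    [0, 1, 3, 4],
    [0, 1, 2, 3, 4, 5],
    [0, 1, 5],
    [0, 2, 3],
    [0, 3, 5],
    [0, 4],
    [0, 2, 4, 5],
    [3],
    [2, 4],
    [2, 3, 5],
    [4, 5],
    [1, 2, 3],
    [1, 2, 4, 5],
    [1, 3, 5],
    [1, 4],
    [1, 2],
    [1, 2, 3, 4, 5],
    [1, 5],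
    [1, 3, 4],
    [1, 3],
    [1, 4, 5],
    [1, 2, 3, 5],
    [1, 2, 4],
    [0, 3],
    [0, 2, 3, 5],
    [0, 2, 4],
    [0, 4, 5],
    [2],
    [3, 4],
    [5],
    [2, 3, 4, 5],
    [0, 1, 2, 3],
    [0, 1, 4],
    [0, 1, 2, 4, 5],
    [0, 1, 3, 5],
    [0, 1, 3],
    [0, 1, 2, 4],
    [0, 1, 4, 5],
    [0, 1, 2, 3, 5],
    [2, 3],
    [4],
    [3, 5],
    [2, 4, 5],
    [0, 2],
    [0, 5],
    [0, 3, 4],
    [0, 2, 3, 4, 5]]

/-- Words for the inner elements. -/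
def inner2 : List (List ℕ) := [
    [],
    [4, 5],
    [5],
    [4]]

/-- An equation. -/
def eq2_0 : CfsgLib.Schur.Tails.Form := [(-1, 0), (1, 0)]

/-- An equation. -/
def eq2_1 : CfsgLib.Schur.Tails.Form := [(-1, 0), (1, 6), (1, 6), (1, 0)]

/-- An equation. -/
def eq2_2 : CfsgLib.Schur.Tails.Form := [(-1, 6), (1, 1), (-1, 6), (-1, 1)]

/-- An equation. -/
def eq2_3 : CfsgLib.Schur.Tails.Form := [(-1, 6), (1, 8), (1, 16), (1, 7), (1, 6), (-1, 7), (-1, 13), (-1, 8), (-1, 20)]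

/-- An equation. -/
def eq2_4 : CfsgLib.Schur.Tails.Form := [(-1, 6), (1, 10), (1, 16), (1, 12), (1, 9), (1, 6), (1, 20), (1, 5), (-1, 9), (-1, 17), (-1, 10), (-1, 5)]

/-- An equation. -/
def eq2_5 : CfsgLib.Schur.Tails.Form := [(-1, 6), (1, 13), (1, 12), (1, 6), (-1, 12), (-1, 13)]

/-- An equation. -/
def eq2_6 : CfsgLib.Schur.Tails.Form := [(-1, 6), (1, 17), (1, 16), (1, 6), (-1, 16), (-1, 17)]

/-- An equation. -/
def eq2_7 : CfsgLib.Schur.Tails.Form := [(-1, 0), (1, 7), (1, 12), (1, 7), (1, 0), (1, 4)]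

/-- An equation. -/
def eq2_8 : CfsgLib.Schur.Tails.Form := [(-1, 7), (1, 2), (-1, 7), (-1, 14), (-1, 2), (-1, 4)]

/-- An equation. -/
def eq2_9 : CfsgLib.Schur.Tails.Form := [(-1, 7), (1, 11), (1, 9), (1, 7), (1, 15), (-1, 9), (-1, 18), (-1, 11), (-1, 20)]

/-- An equation. -/
def eq2_10 : CfsgLib.Schur.Tails.Form := [(-1, 7), (1, 14), (1, 12), (1, 7), (1, 4), (-1, 12), (-1, 14), (-1, 4)]

/-- An equation. -/
def eq2_11 : CfsgLib.Schur.Tails.Form := [(-1, 7), (1, 18), (1, 16), (1, 7), (-1, 16), (-1, 18), (-1, 20)]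

/-- An equation. -/
def eq2_12 : CfsgLib.Schur.Tails.Form := [(-1, 0), (1, 9), (1, 16), (1, 9), (1, 0), (1, 5)]

/-- An equation. -/
def eq2_13 : CfsgLib.Schur.Tails.Form := [(-1, 9), (1, 3), (-1, 9), (-1, 19), (-1, 3), (-1, 5)]

/-- An equation. -/
def eq2_14 : CfsgLib.Schur.Tails.Form := [(-1, 9), (1, 15), (1, 12), (1, 9), (1, 20), (-1, 12), (-1, 15)]

/-- An equation. -/
def eq2_15 : CfsgLib.Schur.Tails.Form := [(-1, 9), (1, 19), (1, 16), (1, 9), (1, 5), (-1, 16), (-1, 19), (-1, 5)]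

/-- An equation. -/
def eq2_16 : CfsgLib.Schur.Tails.Form := [(-1, 0), (1, 12), (1, 12), (1, 0)]

/-- An equation. -/
def eq2_17 : CfsgLib.Schur.Tails.Form := [(-1, 12), (1, 4), (-1, 12), (-1, 4)]

/-- An equation. -/
def eq2_18 : CfsgLib.Schur.Tails.Form := [(-1, 12), (1, 20), (1, 16), (1, 12), (-1, 16), (-1, 20)]

/-- An equation. -/
def eq2_19 : CfsgLib.Schur.Tails.Form := [(-1, 0), (1, 16), (1, 16), (1, 0)]

/-- An equation. -/
def eq2_20 : CfsgLib.Schur.Tails.Form := [(-1, 16), (1, 5), (-1, 16), (-1, 5)]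

/-- An equation. -/
def eq2_21 : CfsgLib.Schur.Tails.Form := [(-1, 1), (1, 1)]

/-- An equation. -/
def eq2_22 : CfsgLib.Schur.Tails.Form := [(-1, 1), (1, 8), (1, 17), (1, 8), (1, 1), (1, 5)]

/-- An equation. -/
def eq2_23 : CfsgLib.Schur.Tails.Form := [(-1, 8), (1, 2), (-1, 8), (-1, 18), (-1, 2), (-1, 5)]

/-- An equation. -/
def eq2_24 : CfsgLib.Schur.Tails.Form := [(-1, 8), (1, 11), (1, 10), (1, 8), (1, 19), (1, 20), (1, 5), (-1, 10), (-1, 18), (-1, 14), (-1, 11), (-1, 5)]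

/-- An equation. -/
def eq2_25 : CfsgLib.Schur.Tails.Form := [(-1, 8), (1, 14), (1, 13), (1, 8), (1, 20), (-1, 13), (-1, 14)]

/-- An equation. -/
def eq2_26 : CfsgLib.Schur.Tails.Form := [(-1, 8), (1, 18), (1, 17), (1, 8), (1, 5), (-1, 17), (-1, 18), (-1, 5)]

/-- An equation. -/
def eq2_27 : CfsgLib.Schur.Tails.Form := [(-1, 1), (1, 10), (1, 17), (1, 13), (1, 10), (1, 1), (1, 20), (1, 4), (1, 5)]

/-- An equation. -/
def eq2_28 : CfsgLib.Schur.Tails.Form := [(-1, 10), (1, 3), (-1, 10), (-1, 19), (-1, 15), (-1, 3), (-1, 20), (-1, 4), (-1, 5)]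

/-- An equation. -/
def eq2_29 : CfsgLib.Schur.Tails.Form := [(-1, 10), (1, 15), (1, 13), (1, 10), (1, 20), (1, 4), (-1, 13), (-1, 15), (-1, 4)]

/-- An equation. -/
def eq2_30 : CfsgLib.Schur.Tails.Form := [(-1, 10), (1, 19), (1, 17), (1, 10), (1, 5), (-1, 17), (-1, 19), (-1, 20), (-1, 5)]

/-- An equation. -/
def eq2_31 : CfsgLib.Schur.Tails.Form := [(-1, 1), (1, 13), (1, 13), (1, 1)]

/-- An equation. -/
def eq2_32 : CfsgLib.Schur.Tails.Form := [(-1, 13), (1, 4), (-1, 13), (-1, 4)]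

/-- An equation. -/
def eq2_33 : CfsgLib.Schur.Tails.Form := [(-1, 13), (1, 20), (1, 17), (1, 13), (-1, 17), (-1, 20)]

/-- An equation. -/
def eq2_34 : CfsgLib.Schur.Tails.Form := [(-1, 1), (1, 17), (1, 17), (1, 1)]

/-- An equation. -/
def eq2_35 : CfsgLib.Schur.Tails.Form := [(-1, 17), (1, 5), (-1, 17), (-1, 5)]

/-- An equation. -/
def eq2_36 : CfsgLib.Schur.Tails.Form := [(-1, 2), (1, 2)]

/-- An equation. -/
def eq2_37 : CfsgLib.Schur.Tails.Form := [(-1, 2), (1, 11), (1, 11), (1, 2)]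

/-- An equation. -/
def eq2_38 : CfsgLib.Schur.Tails.Form := [(-1, 11), (1, 3), (-1, 11), (-1, 3)]

/-- An equation. -/
def eq2_39 : CfsgLib.Schur.Tails.Form := [(-1, 11), (1, 15), (1, 14), (1, 11), (-1, 14), (-1, 15)]

/-- An equation. -/
def eq2_40 : CfsgLib.Schur.Tails.Form := [(-1, 11), (1, 19), (1, 18), (1, 11), (-1, 18), (-1, 19)]

/-- An equation. -/
def eq2_41 : CfsgLib.Schur.Tails.Form := [(-1, 2), (1, 14), (1, 14), (1, 2)]

/-- An equation. -/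
def eq2_42 : CfsgLib.Schur.Tails.Form := [(-1, 14), (1, 4), (-1, 14), (-1, 4)]

/-- An equation. -/
def eq2_43 : CfsgLib.Schur.Tails.Form := [(-1, 14), (1, 20), (1, 18), (1, 14), (-1, 18), (-1, 20)]

/-- An equation. -/
def eq2_44 : CfsgLib.Schur.Tails.Form := [(-1, 2), (1, 18), (1, 18), (1, 2)]

/-- An equation. -/
def eq2_45 : CfsgLib.Schur.Tails.Form := [(-1, 18), (1, 5), (-1, 18), (-1, 5)]

/-- An equation. -/
def eq2_46 : CfsgLib.Schur.Tails.Form := [(-1, 3), (1, 3)]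

/-- An equation. -/
def eq2_47 : CfsgLib.Schur.Tails.Form := [(-1, 3), (1, 15), (1, 15), (1, 3)]

/-- An equation. -/
def eq2_48 : CfsgLib.Schur.Tails.Form := [(-1, 15), (1, 4), (-1, 15), (-1, 4)]

/-- An equation. -/
def eq2_49 : CfsgLib.Schur.Tails.Form := [(-1, 15), (1, 20), (1, 19), (1, 15), (-1, 19), (-1, 20)]

/-- An equation. -/
def eq2_50 : CfsgLib.Schur.Tails.Form := [(-1, 3), (1, 19), (1, 19), (1, 3)]

/-- An equation. -/
def eq2_51 : CfsgLib.Schur.Tails.Form := [(-1, 19), (1, 5), (-1, 19), (-1, 5)]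

/-- An equation. -/
def eq2_52 : CfsgLib.Schur.Tails.Form := [(-1, 4), (1, 4)]

/-- An equation. -/
def eq2_53 : CfsgLib.Schur.Tails.Form := [(-1, 4), (1, 20), (1, 20), (1, 4)]

/-- An equation. -/
def eq2_54 : CfsgLib.Schur.Tails.Form := [(-1, 20), (1, 5), (-1, 20), (-1, 5)]

/-- An equation. -/
def eq2_55 : CfsgLib.Schur.Tails.Form := [(-1, 5), (1, 5)]

/-- An equation. -/
def eq2_56 : CfsgLib.Schur.Tails.Form := [(1, 18), (1, 2), (1, 5), (1, 21), (1, 21), (-1, 18), (-1, 2), (-1, 5)]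

/-- An equation. -/
def eq2_57 : CfsgLib.Schur.Tails.Form := [(1, 14), (1, 11), (1, 2), (1, 15), (1, 3), (1, 4), (1, 22), (1, 22), (-1, 14), (-1, 11), (-1, 2), (-1, 15), (-1, 3), (-1, 4)]

/-- An equation. -/
def eq2_58 : CfsgLib.Schur.Tails.Form := [(1, 5), (1, 23), (1, 23), (-1, 2)]

/-- An equation. -/
def eq2_59 : CfsgLib.Schur.Tails.Form := [(1, 20), (1, 4), (1, 5), (1, 24), (1, 24), (-1, 3)]

/-- An equation. -/
def eq2_60 : CfsgLib.Schur.Tails.Form := [(1, 14), (1, 11), (1, 2), (-1, 18), (-1, 2), (-1, 19), (-1, 20), (1, 22), (1, 21), (-1, 21), (-1, 22), (-1, 14), (-1, 11), (-1, 2), (1, 18), (1, 2), (1, 19), (1, 20)]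

/-- An equation. -/
def eq2_61 : CfsgLib.Schur.Tails.Form := [(1, 18), (1, 5), (-1, 5), (1, 23), (1, 21), (-1, 21), (-1, 23), (-1, 2), (1, 18), (1, 2)]

/-- An equation. -/
def eq2_62 : CfsgLib.Schur.Tails.Form := [(1, 18), (1, 19), (1, 20), (1, 23), (1, 22), (-1, 22), (-1, 23), (-1, 2), (1, 14), (1, 11), (1, 2)]

/-- An equation. -/
def eq2_63 : CfsgLib.Schur.Tails.Form := [(1, 18), (1, 14), (1, 5), (-1, 20), (-1, 5), (1, 24), (1, 21), (-1, 21), (-1, 24), (-1, 11), (1, 19)]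

/-- An equation. -/
def eq2_64 : CfsgLib.Schur.Tails.Form := [(1, 18), (1, 14), (1, 19), (1, 15), (1, 20), (1, 4), (-1, 4), (1, 24), (1, 22), (-1, 22), (-1, 24), (-1, 11), (-1, 3), (1, 15), (1, 3)]

/-- An equation. -/
def eq2_65 : CfsgLib.Schur.Tails.Form := [(1, 5), (-1, 20), (-1, 5), (1, 24), (1, 23), (-1, 23), (-1, 24), (-1, 11)]

/-- An equation. -/
def eq2_66 : CfsgLib.Schur.Tails.Form := [(1, 12), (1, 6), (1, 0), (1, 13), (1, 1), (1, 4), (1, 25), (1, 25), (-1, 12), (-1, 6), (-1, 0), (-1, 13), (-1, 1), (-1, 4)]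

/-- An equation. -/
def eq2_67 : CfsgLib.Schur.Tails.Form := [(1, 16), (1, 0), (1, 5), (1, 26), (1, 26), (-1, 16), (-1, 0), (-1, 5)]

/-- An equation. -/
def eq2_68 : CfsgLib.Schur.Tails.Form := [(1, 13), (1, 1), (1, 4), (1, 27), (1, 27), (-1, 0)]

/-- An equation. -/
def eq2_69 : CfsgLib.Schur.Tails.Form := [(1, 16), (1, 6), (1, 0), (1, 17), (1, 1), (1, 5), (1, 28), (1, 28), (-1, 1)]

/-- An equation. -/
def eq2_70 : CfsgLib.Schur.Tails.Form := [(1, 16), (1, 0), (1, 17), (1, 20), (-1, 12), (-1, 6), (-1, 0), (1, 26), (1, 25), (-1, 25), (-1, 26), (-1, 16), (-1, 0), (-1, 17), (-1, 20), (1, 12), (1, 6), (1, 0)]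

/-- An equation. -/
def eq2_71 : CfsgLib.Schur.Tails.Form := [(1, 12), (1, 6), (1, 13), (1, 1), (1, 4), (-1, 13), (-1, 1), (-1, 4), (1, 27), (1, 25), (-1, 25), (-1, 27), (-1, 0), (1, 12), (1, 6), (1, 0)]

/-- An equation. -/
def eq2_72 : CfsgLib.Schur.Tails.Form := [(1, 12), (1, 6), (-1, 17), (-1, 20), (1, 27), (1, 26), (-1, 26), (-1, 27), (-1, 0), (1, 16), (1, 0)]

/-- An equation. -/
def eq2_73 : CfsgLib.Schur.Tails.Form := [(1, 16), (1, 6), (1, 0), (1, 17), (1, 1), (1, 20), (-1, 12), (-1, 6), (-1, 0), (-1, 13), (-1, 1), (1, 28), (1, 25), (-1, 25), (-1, 28), (-1, 6), (-1, 1), (1, 13), (1, 1)]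

/-- An equation. -/
def eq2_74 : CfsgLib.Schur.Tails.Form := [(1, 16), (1, 6), (1, 0), (1, 5), (-1, 16), (-1, 0), (-1, 17), (-1, 5), (1, 28), (1, 26), (-1, 26), (-1, 28), (-1, 6), (1, 17)]

/-- An equation. -/
def eq2_75 : CfsgLib.Schur.Tails.Form := [(1, 17), (1, 1), (1, 20), (-1, 12), (-1, 6), (-1, 13), (-1, 1), (1, 28), (1, 27), (-1, 27), (-1, 28), (-1, 6)]

/-- A combination. -/
def tgt2_0 : ℕ × ℤ × List (ℤ × ℕ) := (6, 0, [(1, 4), (-2, 7), (-2, 8), (-2, 12), (-2, 13), (-2, 22), (-2, 23), (2, 34), (-2, 62), (-2, 65), (1, 72)])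

/-- A combination. -/
def tgt2_1 : ℕ × ℤ × List (ℤ × ℕ) := (7, 0, [])

/-- A combination. -/
def tgt2_2 : ℕ × ℤ × List (ℤ × ℕ) := (8, 0, [])

/-- A combination. -/
def tgt2_3 : ℕ × ℤ × List (ℤ × ℕ) := (9, 1, [])

/-- A combination. -/
def tgt2_4 : ℕ × ℤ × List (ℤ × ℕ) := (10, 0, [])

/-- A combination. -/
def tgt2_5 : ℕ × ℤ × List (ℤ × ℕ) := (11, 0, [(-1, 4), (1, 7), (1, 8), (1, 12), (1, 13), (1, 22), (1, 23), (-1, 34), (1, 62)])

/-- A combination. -/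
def tgt2_6 : ℕ × ℤ × List (ℤ × ℕ) := (12, 2, [(1, 7), (1, 8), (1, 13), (2, 22), (1, 23), (-1, 34), (1, 62), (1, 65)])

/-- A combination. -/
def tgt2_7 : ℕ × ℤ × List (ℤ × ℕ) := (13, 2, [(-2, 3), (-1, 4), (5, 7), (4, 8), (3, 12), (4, 13), (-2, 16), (6, 22), (4, 23), (-1, 27), (-3, 34), (4, 62), (4, 65)])

/-- A combination. -/
def tgt2_8 : ℕ × ℤ × List (ℤ × ℕ) := (14, 2, [(1, 13), (2, 22), (1, 23), (-1, 34), (1, 62), (1, 65)])

/-- A combination. -/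
def tgt2_9 : ℕ × ℤ × List (ℤ × ℕ) := (15, 0, [(-1, 3), (1, 4), (1, 7), (1, 9), (-1, 16), (-1, 23), (-1, 27), (1, 34)])

/-- A combination. -/
def tgt2_10 : ℕ × ℤ × List (ℤ × ℕ) := (16, 2, [(-1, 3), (4, 7), (3, 8), (2, 12), (3, 13), (-2, 16), (5, 22), (3, 23), (-1, 27), (-2, 34), (3, 62), (3, 65)])

/-- A combination. -/
def tgt2_11 : ℕ × ℤ × List (ℤ × ℕ) := (17, 0, [(-1, 3), (2, 7), (1, 8), (1, 12), (1, 13), (-1, 16), (2, 22), (1, 23), (-1, 27), (1, 62), (1, 65)])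

/-- A combination. -/
def tgt2_12 : ℕ × ℤ × List (ℤ × ℕ) := (18, 0, [(-1, 3), (2, 7), (1, 8), (1, 12), (1, 13), (-1, 16), (1, 22), (-1, 27), (1, 62), (1, 65)])

/-- A combination. -/
def tgt2_13 : ℕ × ℤ × List (ℤ × ℕ) := (19, 2, [(-1, 3), (4, 7), (3, 8), (1, 12), (2, 13), (-2, 16), (5, 22), (3, 23), (-1, 27), (-2, 34), (3, 62), (3, 65)])

/-- A combination. -/
def tgt2_14 : ℕ × ℤ × List (ℤ × ℕ) := (20, 0, [(1, 4), (-1, 7), (-1, 8), (-1, 12), (-1, 13), (-1, 22), (-1, 23), (1, 34), (-1, 62), (-1, 65)])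

/-- A combination. -/
def tgt2_15 : ℕ × ℤ × List (ℤ × ℕ) := (4, 2, [(2, 7), (1, 8), (1, 13), (-1, 16), (2, 22), (1, 23), (-1, 34), (1, 62), (1, 65)])

/-- A combination. -/
def tgt2_16 : ℕ × ℤ × List (ℤ × ℕ) := (5, 0, [(-1, 3), (2, 7), (1, 8), (1, 12), (1, 13), (-1, 16), (3, 22), (1, 23), (-1, 27), (-1, 34), (1, 62), (1, 65)])

/-- The certificate. -/
def cert2 : CfsgLib.Schur.Tails.Cert :=
  { r := 6, a := 4, p := 2, fuel := 10, width := 4,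
    rules := [([0, 0], []), ([1, 1], []), ([2, 2], []), ([3, 3], []), ([4, 4], []), ([5, 5], []), ([1, 0], [0, 1]), ([2, 0], [0, 2, 4]), ([2, 1], [1, 2, 5]), ([3, 0], [0, 3, 5]), ([3, 1], [1, 3, 4, 5]), ([3, 2], [2, 3]), ([4, 0], [0, 4]), ([4, 1], [1, 4]), ([4, 2], [2, 4]), ([4, 3], [3, 4]), ([5, 0], [0, 5]), ([5, 1], [1, 5]), ([5, 2], [2, 5]), ([5, 3], [3, 5]), ([5, 4], [4, 5])],
    ix := [[0, 0, 0, 0, 0, 0], [6, 1, 0, 0, 0, 0], [7, 8, 2, 0, 0, 0], [9, 10, 11, 3, 0, 0], [12, 13, 14, 15, 4, 0], [16, 17, 18, 19, 20, 5]],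
    ovl := [([0], 0, []), ([1], 0, []), ([1], 6, []), ([2], 6, []), ([3], 6, []), ([4], 6, []), ([5], 6, []), ([2], 0, []), ([2], 7, []), ([3], 7, []), ([4], 7, []), ([5], 7, []), ([3], 0, []), ([3], 9, []), ([4], 9, []), ([5], 9, []), ([4], 0, []), ([4], 12, []), ([5], 12, []), ([5], 0, []), ([5], 16, []), ([1], 1, []), ([2], 1, []), ([2], 8, []), ([3], 8, []), ([4], 8, []), ([5], 8, []), ([3], 1, []), ([3], 10, []), ([4], 10, []), ([5], 10, []), ([4], 1, []), ([4], 13, []), ([5], 13, []), ([5], 1, []), ([5], 17, []), ([2], 2, []), ([3], 2, []), ([3], 11, []), ([4], 11, []), ([5], 11, []), ([4], 2, []), ([4], 14, []), ([5], 14, []), ([5], 2, []), ([5], 18, []), ([3], 3, []), ([4], 3, []), ([4], 15, []), ([5], 15, []), ([5], 3, []), ([5], 19, []), ([4], 4, []), ([5], 4, []), ([5], 20, []), ([5], 5, [])],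
    fus := [⟨[[2, 5], [2, 3, 4], [2], [3]], [[2, 5], [2, 3, 4], [5], [4, 5]], [([0, 0], []), ([1, 1], []), ([2, 2], []), ([3, 3], []), ([1, 0], [0, 1]), ([2, 0], [0, 2]), ([2, 1], [1, 2]), ([3, 0], [0, 3]), ([3, 1], [1, 3]), ([3, 2], [2, 3])]⟩, ⟨[[0, 1, 4], [0, 5], [0], [1]], [[0, 1, 4], [0, 5], [1, 4], [0, 1, 5]], [([0, 0], []), ([1, 1], []), ([2, 2], []), ([3, 3], []), ([1, 0], [0, 1]), ([2, 0], [0, 2]), ([2, 1], [1, 2]), ([3, 0], [0, 3]), ([3, 1], [1, 3]), ([3, 2], [2, 3])]⟩],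
    eqs := [eq2_0, eq2_1, eq2_2, eq2_3, eq2_4, eq2_5, eq2_6, eq2_7, eq2_8, eq2_9, eq2_10, eq2_11, eq2_12, eq2_13, eq2_14, eq2_15, eq2_16, eq2_17, eq2_18, eq2_19, eq2_20, eq2_21, eq2_22, eq2_23, eq2_24, eq2_25, eq2_26, eq2_27, eq2_28, eq2_29, eq2_30, eq2_31, eq2_32, eq2_33, eq2_34, eq2_35, eq2_36, eq2_37, eq2_38, eq2_39, eq2_40, eq2_41, eq2_42, eq2_43, eq2_44, eq2_45, eq2_46, eq2_47, eq2_48, eq2_49, eq2_50, eq2_51, eq2_52, eq2_53, eq2_54, eq2_55, eq2_56, eq2_57, eq2_58, eq2_59, eq2_60, eq2_61, eq2_62, eq2_63, eq2_64, eq2_65, eq2_66, eq2_67, eq2_68, eq2_69, eq2_70, eq2_71, eq2_72, eq2_73, eq2_74, eq2_75],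
    lam := [[], [], [], [], [(-1, 7)], [(-1, 8)]],
    gen := [(1, 9), (-1, 8)], b := 4, m := 1,
    genC := [(-2, 7), (-2, 8), (-2, 13), (1, 16), (-4, 22), (-2, 23), (2, 34), (-2, 62), (-2, 65)],
    targets := [tgt2_0, tgt2_1, tgt2_2, tgt2_3, tgt2_4, tgt2_5, tgt2_6, tgt2_7, tgt2_8, tgt2_9, tgt2_10, tgt2_11, tgt2_12, tgt2_13, tgt2_14, tgt2_15, tgt2_16] }

/-- The second surviving class. -/
def second2 : CfsgLib.Schur.Tails.Second :=
  { gen := [(1, 10), (-1, 7), (-1, 8)], b := 4, genC := [(2, 3), (-4, 7), (-2, 8), (-2, 12), (-2, 13), (2, 16), (-4, 22), (-2, 23), (2, 27), (1, 34), (-2, 62), (-2, 65)], coef := [0, 0, 0, 0, 1, 0, 0, 2, 0, 2, 2, 2, 2, 2, 0, 0, 2] }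

end CfsgLib.Schur.PSLThreeFour
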