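import Cfsg.Agent.Lib.Schur.PSLThreeFour.Model
import Cfsg.Agent.Lib.Schur.Basic

/-!
The cover of `PSL(3, 4)` with kernel `3 × 4 × 4`, inside three monomial covers.
-/

set_option autoImplicit false
set_option maxRecDepth 20000

namespace CfsgLib.Schur.PSLThreeFour

open CfsgLib.Sporadic.OutCert CfsgLib.Schur.MonoCover Subgroup

attribute [local irreducible] lk baseK zW zS Cert.evalK Cert.shapeK Cert.treeK Cert.memK Cert.goodK Cert.relK

/-- The labels of the triple cover. -/
abbrev Lab3 : Type := ZMod 3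

/-- The labels of the fourfold covers. -/
abbrev Lab4 : Type := ZMod 4

/-- Permutations of points and three kinds of sheets. -/
abbrev Big : Type := Equiv.Perm (Fin 21) ×
  Equiv.Perm (Fin 120 × Lab3) × Equiv.Perm (Fin 56 × Lab4) × Equiv.Perm (Fin 56 × Lab4)

instance : NeZero covThree.q := ⟨by decide⟩

instance : NeZero covFourA.q := ⟨by decide⟩

instance : NeZero covFourB.q := ⟨by decide⟩

theorem lift3_exists (m : Fin 2) : ∃ r : Equiv.Perm (Fin covThree.N),
    (∀ i : Fin covThree.N, covThree.imN m i = (r i : ℕ)) ∧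
      ((psi (gen m) : Equiv.Perm (Fin covThree.d)), covThree.liftP r (covThree.shF m)) ∈ covThree.movers := by
  obtain ⟨⟨⟨⟨⟨hs, -⟩, m0⟩, m1⟩, g0⟩, g1⟩ := by simpa only [coverOK, Bool.and_eq_true] using cov3_ok
  fin_cases m
  · exact covThree.exists_lift hs (by decide) m0 g0 (gen_rep 0)
  · exact covThree.exists_lift hs (by decide) m1 g1 (gen_rep 1)

theorem liftA_exists (m : Fin 2) : ∃ r : Equiv.Perm (Fin covFourA.N),
    (∀ i : Fin covFourA.N, covFourA.imN m i = (r i : ℕ)) ∧
      ((psi (gen m) : Equiv.Perm (Fin covFourA.d)), covFourA.liftP r (covFourA.shF m)) ∈ covFourA.movers := by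
  obtain ⟨⟨⟨⟨⟨hs, -⟩, m0⟩, m1⟩, g0⟩, g1⟩ := by simpa only [coverOK, Bool.and_eq_true] using covA_ok
  fin_cases m
  · exact covFourA.exists_lift hs (by decide) m0 g0 (gen_rep 0)
  · exact covFourA.exists_lift hs (by decide) m1 g1 (gen_rep 1)

theorem liftB_exists (m : Fin 2) : ∃ r : Equiv.Perm (Fin covFourB.N),
    (∀ i : Fin covFourB.N, covFourB.imN m i = (r i : ℕ)) ∧
      ((psi (gen m) : Equiv.Perm (Fin covFourB.d)), covFourB.liftP r (covFourB.shF m)) ∈ covFourB.movers := by
  obtain ⟨⟨⟨⟨⟨hs, -⟩, m0⟩, m1⟩, g0⟩, g1⟩ := by simpa only [coverOK, Bool.and_eq_true] using covB_ok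
  fin_cases m
  · exact covFourB.exists_lift hs (by decide) m0 g0 (gen_rep 0)
  · exact covFourB.exists_lift hs (by decide) m1 g1 (gen_rep 1)

/-- A lifted generator of the triple cover. -/
noncomputable def lift3 (m : Fin 2) : Equiv.Perm (Fin covThree.d) × Equiv.Perm covThree.Sheet :=
  (psi (gen m), covThree.liftP (lift3_exists m).choose (covThree.shF m))

/-- A lifted generator of the first fourfold cover. -/
noncomputable def liftA (m : Fin 2) : Equiv.Perm (Fin covFourA.d) × Equiv.Perm covFourA.Sheet :=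
  (psi (gen m), covFourA.liftP (liftA_exists m).choose (covFourA.shF m))

/-- A lifted generator of the second fourfold cover. -/
noncomputable def liftB (m : Fin 2) : Equiv.Perm (Fin covFourB.d) × Equiv.Perm covFourB.Sheet :=
  (psi (gen m), covFourB.liftP (liftB_exists m).choose (covFourB.shF m))

/-- The lifted generators. -/
noncomputable def lgen (m : Fin 2) : Big := (psi (gen m), (lift3 m).2, (liftA m).2, (liftB m).2)

/-- The projection to the triple cover. -/
def pr3 : Big →* Equiv.Perm (Fin covThree.d) × Equiv.Perm covThree.Sheet :=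
  (MonoidHom.fst _ _).prod ((MonoidHom.fst _ _).comp (MonoidHom.snd _ _))

/-- The projection to the first fourfold cover. -/
def prA : Big →* Equiv.Perm (Fin covFourA.d) × Equiv.Perm covFourA.Sheet :=
  (MonoidHom.fst _ _).prod ((MonoidHom.fst _ _).comp ((MonoidHom.snd _ _).comp (MonoidHom.snd _ _)))

/-- The projection to the second fourfold cover. -/
def prB : Big →* Equiv.Perm (Fin covFourB.d) × Equiv.Perm covFourB.Sheet :=
  (MonoidHom.fst _ _).prod ((MonoidHom.snd _ _).comp ((MonoidHom.snd _ _).comp (MonoidHom.snd _ _)))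

/-- The cover. -/
noncomputable abbrev Gam : Subgroup Big := Subgroup.closure (Set.range lgen)

theorem gam_le : Gam ≤ covThree.movers.comap pr3 ⊓ (covFourA.movers.comap prA ⊓ covFourB.movers.comap prB) :=
  (Subgroup.closure_le _).2 (by
    rintro _ ⟨m, rfl⟩
    exact ⟨(lift3_exists m).choose_spec.2, (liftA_exists m).choose_spec.2, (liftB_exists m).choose_spec.2⟩)

theorem fst_mem (π : Gam) : (π : Big).1 ∈ psi.range := by
  have : Gam ≤ psi.range.comap (MonoidHom.fst _ _) :=
    (Subgroup.closure_le _).2 (by rintro _ ⟨m, rfl⟩; exact ⟨gen m, rfl⟩)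
  exact this π.2

/-- The projection. -/
noncomputable def sigma : Gam →* G :=
  (MonoidHom.ofInjective psi_injective).symm.toMonoidHom.comp
    (((MonoidHom.fst _ _).comp Gam.subtype).codRestrict psi.range fst_mem)

theorem psi_sigma (π : Gam) : psi (sigma π) = (π : Big).1 := by
  have h := (MonoidHom.ofInjective psi_injective).apply_symm_apply
    (((MonoidHom.fst _ _).comp Gam.subtype).codRestrict psi.range fst_mem π)
  exact congrArg Subtype.val h

/-- A lifted generator in the cover. -/
noncomputable def gG (m : Fin 2) : Gam := ⟨lgen m, Subgroup.subset_closure ⟨m, rfl⟩⟩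

theorem sigma_gen (m : Fin 2) : sigma (gG m) = gen m := psi_injective (psi_sigma _)

theorem gG_closure : Subgroup.closure (Set.range gG) = ⊤ := by
  apply Subgroup.map_injective Gam.subtype_injective
  rw [MonoidHom.map_closure, ← Set.range_comp, ← MonoidHom.range_eq_map, Subgroup.range_subtype]
  rfl

theorem sigma_surjective : Function.Surjective sigma := by
  rw [← MonoidHom.range_eq_top, MonoidHom.range_eq_map, ← gG_closure, MonoidHom.map_closure,
    ← Set.range_comp]
  exact (congrArg Subgroup.closure (congrArg Set.range (funext sigma_gen))).trans gen_closure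

/-- The multiplier. -/
abbrev Mult : Type := Multiplicative (Lab3 × Lab4 × Lab4)

/-- The shifts of the three kinds of sheets. -/
def shifts : Mult →* Big where
  toFun v := (1, covThree.shift v.toAdd.1, covFourA.shift v.toAdd.2.1, covFourB.shift v.toAdd.2.2)
  map_one' := Prod.ext rfl (Prod.ext covThree.shift_zero (Prod.ext covFourA.shift_zero covFourB.shift_zero))
  map_mul' v w := Prod.ext (one_mul 1).symm (Prod.ext (covThree.shift_mul _ _).symm
    (Prod.ext (covFourA.shift_mul _ _).symm (covFourB.shift_mul _ _).symm))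

theorem shifts_injective : Function.Injective shifts := fun v w h =>
  Multiplicative.toAdd.injective (Prod.ext (covThree.shift_inj (by decide) (congrArg (fun x : Big => x.2.1) h))
    (Prod.ext (covFourA.shift_inj (by decide) (congrArg (fun x : Big => x.2.2.1) h))
      (covFourB.shift_inj (by decide) (congrArg (fun x : Big => x.2.2.2) h))))

theorem ker_eq {π : Gam} (h : π ∈ sigma.ker) : (π : Big) ∈ shifts.range := by
  have h1 : (π : Big).1 = 1 := by rw [← psi_sigma, MonoidHom.mem_ker.1 h, map_one]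
  obtain ⟨h3, hA, hB⟩ := gam_le π.2
  obtain ⟨⟨⟨⟨⟨s3, t3⟩, -⟩, -⟩, -⟩, -⟩ := by simpa only [coverOK, Bool.and_eq_true] using cov3_ok
  obtain ⟨⟨⟨⟨⟨sA, tA⟩, -⟩, -⟩, -⟩, -⟩ := by simpa only [coverOK, Bool.and_eq_true] using covA_ok
  obtain ⟨⟨⟨⟨⟨sB, tB⟩, -⟩, -⟩, -⟩, -⟩ := by simpa only [coverOK, Bool.and_eq_true] using covB_ok
  obtain ⟨a, ha⟩ := covThree.exists_shift s3 t3 (by decide) h3 h1
  obtain ⟨b, hb⟩ := covFourA.exists_shift sA tA (by decide) hA h1
  obtain ⟨c, hc⟩ := covFourB.exists_shift sB tB (by decide) hB h1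
  exact ⟨Multiplicative.ofAdd (a, b, c), Prod.ext h1.symm (Prod.ext ha.symm (Prod.ext hb.symm hc.symm))⟩

theorem ker_le_center : sigma.ker ≤ Subgroup.center Gam := by
  intro π hπ
  refine Subgroup.mem_center_iff.2 fun g => Subtype.ext ?_
  obtain ⟨v, e⟩ := ker_eq hπ
  obtain ⟨h3, hA, hB⟩ := gam_le g.2
  rw [Subgroup.coe_mul, Subgroup.coe_mul, ← e]
  refine Prod.ext ?_ (Prod.ext ?_ (Prod.ext ?_ ?_))
  · exact (mul_one _).trans (one_mul _).symm
  · exact (covThree.shift_comm h3 _).symm
  · exact (covFourA.shift_comm hA _).symm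
  · exact (covFourB.shift_comm hB _).symm

/-- The product of lifted generators along a word. -/
noncomputable def wG (w : List (Fin 2)) : Gam := (w.map gG).prod

theorem wG_eq {w s : List ℕ} (h : wordsRel w s = true) :
    (wG (letters w) : Big) =
      shifts (Multiplicative.ofAdd ((s.getD 0 0 : ℕ), (s.getD 1 0 : ℕ), (s.getD 2 0 : ℕ))) := by
  simp only [wordsRel, Bool.and_eq_true, Nat.blt_eq] at h
  obtain ⟨⟨⟨⟨⟨⟨⟨hl, hb⟩, h3⟩, hA⟩, hB⟩, l3⟩, lA⟩, lB⟩ := h
  have el := letters_val hl
  have hval : (wG (letters w) : Big) = ((letters w).map lgen).prod := by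
    rw [wG, Subgroup.val_list_prod, List.map_map]
    rfl
  refine Prod.ext ?_ (Prod.ext ?_ (Prod.ext ?_ ?_))
  · show (wG (letters w) : Big).1 = 1
    rw [← psi_sigma, wG, map_list_prod, List.map_map,
      show (sigma ∘ gG) = gen from funext sigma_gen, prod_eq_one (by rw [el]; exact hb), map_one]
  · have e := covThree.prod_eq_shift lift3 Fin.val (w := letters w)
      (fun m => ⟨_, (lift3_exists m).choose_spec.1, rfl⟩) l3 (el.symm ▸ h3)
    refine Eq.trans ?_ e
    show (pr3 (wG (letters w) : Big)).2 = _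
    rw [hval, map_list_prod, List.map_map]
    rfl
  · have e := covFourA.prod_eq_shift liftA Fin.val (w := letters w)
      (fun m => ⟨_, (liftA_exists m).choose_spec.1, rfl⟩) lA (el.symm ▸ hA)
    refine Eq.trans ?_ e
    show (prA (wG (letters w) : Big)).2 = _
    rw [hval, map_list_prod, List.map_map]
    rfl
  · have e := covFourB.prod_eq_shift liftB Fin.val (w := letters w)
      (fun m => ⟨_, (liftB_exists m).choose_spec.1, rfl⟩) lB (el.symm ▸ hB)
    refine Eq.trans ?_ e
    show (prB (wG (letters w) : Big)).2 = _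
    rw [hval, map_list_prod, List.map_map]
    rfl

/-- The shifts of one of the two central words. -/
noncomputable def zV (j : ℕ) : Mult :=
  Multiplicative.ofAdd (((zS.getD j []).getD 0 0 : ℕ), ((zS.getD j []).getD 1 0 : ℕ), ((zS.getD j []).getD 2 0 : ℕ))

theorem shifts_mem (v : Mult) : ∃ π ∈ sigma.ker, (π : Big) = shifts v := by
  obtain ⟨i, j, ha, hb, hc⟩ := z_span v.toAdd.1 v.toAdd.2.1 v.toAdd.2.2
  have hv : v = zV 0 ^ i.val * zV 1 ^ j.val := by
    refine Multiplicative.toAdd.injective (Prod.ext ?_ (Prod.ext ?_ ?_))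
    · simp [zV, ← ha]
    · simp [zV, ← hb]
    · simp [zV, ← hc]
  refine ⟨wG (letters (zW.getD 0 [])) ^ i.val * wG (letters (zW.getD 1 [])) ^ j.val, ?_, ?_⟩
  · have hk : ∀ k < 2, wG (letters (zW.getD k [])) ∈ sigma.ker := fun k hk =>
      MonoidHom.mem_ker.2 (psi_injective (by rw [psi_sigma, wG_eq (rel_z k hk), map_one]; rfl))
    exact mul_mem (pow_mem (hk 0 (by norm_num)) _) (pow_mem (hk 1 (by norm_num)) _)
  · rw [Subgroup.coe_mul, Subgroup.coe_pow, Subgroup.coe_pow, wG_eq (rel_z 0 (by norm_num)),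
      wG_eq (rel_z 1 (by norm_num)), hv, map_mul, map_pow, map_pow]
    rfl

/-- The kernel is the multiplier. -/
noncomputable def kerEquiv : sigma.ker ≃* Mult :=
  (MulEquiv.ofBijective
    ({ toFun := fun v => ⟨(shifts_mem v).choose, (shifts_mem v).choose_spec.1⟩
       map_one' := Subtype.ext (Subtype.ext (by
         rw [OneMemClass.coe_one, OneMemClass.coe_one]
         exact (shifts_mem 1).choose_spec.2.trans (map_one _)))
       map_mul' := fun v w => Subtype.ext (Subtype.ext (by
         rw [Subgroup.coe_mul, Subgroup.coe_mul, (shifts_mem (v * w)).choose_spec.2,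
           (shifts_mem v).choose_spec.2, (shifts_mem w).choose_spec.2, map_mul])) } : Mult →* sigma.ker)
    ⟨fun v w h => shifts_injective (by
        rw [← (shifts_mem v).choose_spec.2, ← (shifts_mem w).choose_spec.2]
        exact congrArg (fun x : sigma.ker => ((x : Gam) : Big)) h),
      fun π => by
        obtain ⟨v, e⟩ := ker_eq π.2
        exact ⟨v, Subtype.ext (Subtype.ext ((shifts_mem v).choose_spec.2.trans e))⟩⟩).symm

theorem card_ker : Nat.card sigma.ker = 48 := by
  rw [Nat.card_congr kerEquiv.toEquiv]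
  simp [Nat.card_prod]

theorem gG_pow : gG 0 ^ 7 = 1 ∧ gG 1 ^ 5 = 1 := by
  have key : ∀ (m : Fin 2) (n : ℕ), gG m ^ n = wG (letters (List.replicate n m.val)) := fun m n => by
    simp [wG, letters, List.map_replicate]
  have h0 : shifts (Multiplicative.ofAdd (((0 : ℕ) : Lab3), ((0 : ℕ) : Lab4), ((0 : ℕ) : Lab4))) = 1 := by
    simp only [Nat.cast_zero]
    exact map_one shifts
  exact ⟨Subtype.ext (by rw [key, Fin.val_zero, wG_eq rel_gen.1]; exact h0),
    Subtype.ext (by rw [key, Fin.val_one, wG_eq rel_gen.2]; exact h0)⟩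

theorem commutator_top : commutator Gam = ⊤ := by
  have h12 : ∀ π : Gam, π ^ 48 ∈ commutator Gam := by
    intro π
    obtain ⟨d, hd, hde⟩ : sigma π ∈ (commutator Gam).map sigma := by
      rw [_root_.commutator_def, Subgroup.map_commutator, ← MonoidHom.range_eq_map,
        MonoidHom.range_eq_top.2 sigma_surjective, ← _root_.commutator_def, commutator_G]
      exact Subgroup.mem_top _
    have hk : d⁻¹ * π ∈ sigma.ker := by rw [MonoidHom.mem_ker, map_mul, map_inv, hde, inv_mul_cancel]
    have hk12 : (d⁻¹ * π) ^ 48 = 1 :=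
      congrArg Subtype.val (card_ker ▸ pow_card_eq_one' : (⟨_, hk⟩ : sigma.ker) ^ 48 = 1)
    have e := (show Commute d (d⁻¹ * π) from Subgroup.mem_center_iff.1 (ker_le_center hk) d).mul_pow 48
    rw [mul_inv_cancel_left, hk12, mul_one] at e
    rw [e]
    exact Subgroup.pow_mem _ hd _
  refine eq_top_iff.2 (gG_closure ▸ (Subgroup.closure_le _).2 ?_)
  rintro _ ⟨m, rfl⟩
  fin_cases m
  · have h : gG 0 = (gG 0 ^ 7) ^ 7 * (gG 0 ^ 48)⁻¹ := by
      rw [eq_mul_inv_iff_mul_eq, ← pow_mul, ← pow_succ']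
    show gG 0 ∈ commutator Gam
    rw [h, gG_pow.1, one_pow, one_mul]
    exact Subgroup.inv_mem _ (h12 _)
  · have h : gG 1 = (gG 1 ^ 48) ^ 2 * ((gG 1 ^ 5) ^ 19)⁻¹ := by
      rw [eq_mul_inv_iff_mul_eq, ← pow_mul, ← pow_mul, ← pow_succ']
    show gG 1 ∈ commutator Gam
    rw [h, gG_pow.2, one_pow, inv_one, mul_one]
    exact Subgroup.pow_mem _ (h12 _) _

theorem isStem : Cfsg.IsStemExtension sigma :=
  ⟨sigma_surjective, ker_le_center, by rw [commutator_top]; exact le_top⟩

end CfsgLib.Schur.PSLThreeFour
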