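import Cfsg.Agent.Lib.Schur.PSLThreeFour.Cover
import Cfsg.Agent.Lib.Schur.PSLThreeFour.Check2
import Cfsg.Agent.Lib.Schur.PSLThreeFour.Check3
import Cfsg.Agent.Lib.Schur.TailsBoundTwo

/-!
The multiplier of `PSL(3, 4)` is `3 × 4 × 4`.
-/

set_option autoImplicit false
set_option maxRecDepth 100000

namespace CfsgLib.Schur.PSLThreeFour

open CfsgLib.Sporadic.OutCert

attribute [local irreducible] lk pkF allF slpTab2 slpTab3 kk2 kk3 gk2 gk3 ordK baseK

theorem hw : 21 ≤ 2 ^ 5 := by norm_num

theorem base_mem {tab : List ℕ} (h : tab.take 2 = baseK) :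
    ∀ i < 2, ∃ q : G, Rep 5 21 (tab.getD i (oneK 5 21)) (psi q) := by
  intro i hi
  refine ⟨gen ⟨i, hi⟩, ?_⟩
  have hl : i < baseK.length := by
    have e : baseK.length = 2 := by decide +kernel
    omega
  have e : tab.getD i (oneK 5 21) = (tab.take 2).getD i (oneK 5 21) := by
    simp [List.getD_eq_getElem?_getD, hi]
  rw [e, h, List.getD_eq_getElem _ _ hl, ← List.getD_eq_getElem _ 0 hl]
  exact gen_rep ⟨i, hi⟩

theorem card_ker_bound (Γ : Type) [Group Γ] [Finite Γ] (σ : Γ →* G) (hσ : Cfsg.IsStemExtension σ) :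
    Nat.card σ.ker ≤ 48 := by
  refine Tails.card_ker_le σ hσ (by norm_num) fun p hp hd => ?_
  rw [card_G] at hd
  have hp' : p = 2 ∨ p = 3 ∨ p = 5 ∨ p = 7 := by
    have h1 : p ∣ 2 ^ 6 * 3 ^ 2 * 5 * 7 := hd
    have q : ∀ r : ℕ, r.Prime → p ∣ r → p = r := fun r hr h => (Nat.prime_dvd_prime_iff_eq hp hr).1 h
    simp only [Nat.Prime.dvd_mul hp] at h1
    rcases h1 with ((h1 | h1) | h1) | h1
    · exact Or.inl (q 2 Nat.prime_two (hp.dvd_of_dvd_pow h1))
    · exact Or.inr (Or.inl (q 3 Nat.prime_three (hp.dvd_of_dvd_pow h1)))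
    · exact Or.inr (Or.inr (Or.inl (q 5 (by norm_num) h1)))
    · exact Or.inr (Or.inr (Or.inr (q 7 (by norm_num) h1)))
  haveI := Fact.mk hp
  haveI := finite_G
  have hord : ∀ j < 2, ∀ m : ℕ, [5, 7].getD j 0 = m → m.Prime → ¬ m ^ 2 ∣ 20160 →
      (Nat.card σ.ker).factorization m = 0 := by
    intro j hj m hm hmp hm2
    haveI := Fact.mk hmp
    obtain ⟨h1, h2, h3⟩ := ord_ok
    have h := List.all_eq_true.1 h2 j (List.mem_range.2 hj)
    simp only [Bool.and_eq_true, Bool.not_eq_true', beq_eq_false_iff_ne, beq_iff_eq, hm] at h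
    have hmem := Tails.exists_pick psi hw (Tails.exists_slp psi hw (base_mem slp3_ok.2) slp3_ok.1) h1 j
    have hdd : ordK.getD j (oneK 5 21) = ordK.getD j 0 := by
      rw [List.getD_eq_getElem _ _ (h3 ▸ hj), List.getD_eq_getElem _ _ (h3 ▸ hj)]
    rw [hdd] at hmem
    obtain ⟨q, hq⟩ := Tails.exists_orderOf psi hw psi_injective hmem h.1.1 h.1.2 h.2
    exact Tails.factorization_card_ker_of_orderOf σ hσ q (k := 1) (by rw [hq, pow_one]) (by rwa [card_G])
  have hf : (48 : ℕ).factorization 2 = 4 ∧ (48 : ℕ).factorization 3 = 1 := by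
    rw [show (48 : ℕ) = 2 ^ 4 * 3 by norm_num,
      Nat.factorization_mul (by norm_num) (by norm_num), Nat.prime_two.factorization_pow,
      Nat.prime_three.factorization]
    simp
  rcases hp' with rfl | rfl | rfl | rfl
  · obtain ⟨hs, hDp, hm, hb, hb2, hQ⟩ := cert2_shape
    have hs2 := Tails.exists_slp psi hw (base_mem slp2_ok.2) slp2_ok.1
    choose y hy using Tails.exists_pick _ hw hs2 pick2_ok.1
    choose g hg using Tails.exists_pick _ hw hs2 pick2_ok.2
    have := Tails.factorization_card_ker_le_two cert2 second2 cert2_eqs cert2_comb hs hDp hm y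
      (Tails.rel_of_check psi psi_injective hw hy rels2_ok.1) g
      (Tails.fus_of_check psi psi_injective hw hy hg rels2_ok.2)
      (all2_ok.2 ▸ Tails.card_tailGen_ge psi hy all2_ok.1)
      (inner2_ok.2 ▸ Tails.card_tailGen_ge psi hy inner2_ok.1)
      (by rw [card_G]; exact hQ) Γ σ hσ
    rw [hb, hb2, show (4 * 4 : ℕ) = 2 ^ 4 by norm_num, Nat.prime_two.factorization_pow] at this
    simpa [hf.1] using this
  · obtain ⟨hs, hDp, hm, hb, hQ⟩ := cert3_shape
    have hs3 := Tails.exists_slp psi hw (base_mem slp3_ok.2) slp3_ok.1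
    have := Tails.factorization_of_perm psi hw psi_injective cert3
      (Tails.exists_pick _ hw hs3 pick3_ok.1) (Tails.exists_pick _ hw hs3 pick3_ok.2)
      cert3_eqs cert3_comb hs rels3_ok.1 rels3_ok.2 (p := 3) hDp hm all3_ok.1 all3_ok.2 inner3_ok.1 inner3_ok.2
      card_G hQ Γ σ hσ
    rw [hb, Nat.prime_three.factorization] at this
    simpa [hf.2] using this
  · rw [hord 0 (by norm_num) 5 rfl (by norm_num) (by norm_num)]; exact Nat.zero_le _
  · rw [hord 1 (by norm_num) 7 rfl (by norm_num) (by norm_num)]; exact Nat.zero_le _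

theorem hasMultiplier : Cfsg.HasSchurMultiplier G Mult := by
  haveI := finite_G
  exact Basic.hasSchurMultiplier_of_le _ isStem kerEquiv
    fun Δ _ _ τ hτ => (card_ker_bound Δ τ hτ).trans (le_of_eq (by
      rw [← card_ker, Nat.card_congr kerEquiv.toEquiv]))

/-- Projective special linear groups over isomorphic fields are isomorphic. -/
noncomputable def pslEquiv {F : Type*} [Field F] (e : CfsgLib.Sporadic.FieldFour ≃+* F) :
    G ≃* Matrix.ProjectiveSpecialLinearGroup (Fin 3) F :=
  let f : SL34 ≃* Matrix.SpecialLinearGroup (Fin 3) F :=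
    { toFun := Matrix.SpecialLinearGroup.map e.toRingHom
      invFun := Matrix.SpecialLinearGroup.map e.symm.toRingHom
      left_inv := fun g => Matrix.SpecialLinearGroup.ext _ _ fun i j => by simp
      right_inv := fun g => Matrix.SpecialLinearGroup.ext _ _ fun i j => by simp
      map_mul' := map_mul _ }
  QuotientGroup.congr (Subgroup.center _) (Subgroup.center _) f
    (Subgroup.ext fun x => by
      simp only [Subgroup.mem_map, Subgroup.mem_center_iff]
      refine ⟨?_, fun h => ⟨f.symm x, fun g => f.injective ?_, f.apply_symm_apply x⟩⟩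
      · rintro ⟨y, hy, rfl⟩ g
        obtain ⟨g, rfl⟩ := f.surjective g
        exact (map_mul f g y).symm.trans ((congrArg f (hy g)).trans (map_mul f y g))
      · rw [map_mul, map_mul, f.apply_symm_apply]; exact h (f g))

/-- Over any field with four elements. -/
theorem hasMultiplier_group {F : Type*} [Field F] [Fintype F] (hF : Fintype.card F = 4) :
    Cfsg.HasSchurMultiplier (Matrix.ProjectiveSpecialLinearGroup (Fin 3) F) Mult := by
  haveI := finite_G
  exact Basic.hasSchurMultiplier_of_mulEquiv (pslEquiv (FiniteField.ringEquivOfCardEq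
    (CfsgLib.Sporadic.FieldFour.card_eq.trans hF.symm))) hasMultiplier

end CfsgLib.Schur.PSLThreeFour
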