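import Cfsg.Agent.Lib.Schur.PSLThreeFour.Check
import Cfsg.Agent.Lib.Classical.SLBasic
import Cfsg.Agent.Lib.SmallGroups.M21

/-!
`PSL(3, 4)` as permutations of the 21 numbered points of the plane.
-/

set_option autoImplicit false
set_option maxRecDepth 20000

namespace CfsgLib.Schur.PSLThreeFour

open CfsgLib.Sporadic CfsgLib.Sporadic.OutCert CfsgLib.SmallGroups
open scoped MatrixGroups

attribute [local irreducible] vec entF lk baseK chainW lev0 chainL

/-- The special linear group. -/
abbrev SL34 : Type := Matrix.SpecialLinearGroup (Fin 3) FieldFour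

/-- The group. -/
abbrev G : Type := Matrix.ProjectiveSpecialLinearGroup (Fin 3) FieldFour

/-- The image vector of a point. -/
def app (g : SL34) (v : Fin 3 → FieldFour) : Fin 3 → FieldFour :=
  Matrix.mulVec (g : Matrix (Fin 3) (Fin 3) FieldFour) v

theorem app_mul (g h : SL34) (v : Fin 3 → FieldFour) : app (g * h) v = app g (app h v) := by
  unfold app
  rw [Matrix.SpecialLinearGroup.coe_mul, ← Matrix.mulVec_mulVec]

theorem app_one (v : Fin 3 → FieldFour) : app 1 v = v := by
  unfold app
  rw [Matrix.SpecialLinearGroup.coe_one, Matrix.one_mulVec]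

theorem app_smul (g : SL34) (l : FieldFour) (v : Fin 3 → FieldFour) :
    app g (l • v) = l • app g v := Matrix.mulVec_smul _ _ _

theorem exists_point {w : Fin 3 → FieldFour} (hw : w ≠ 0) :
    ∃ i : Fin 21, ∃ l : FieldFour, l ≠ 0 ∧ w = l • vec i := by
  rcases line_cover (w 0) (w 1) (w 2) with ⟨h0, h1, h2⟩ | ⟨i, l, hl, h0, h1, h2⟩
  · refine absurd (funext fun k => ?_) hw
    fin_cases k
    exacts [h0, h1, h2]
  · refine ⟨i, l, hl, funext fun k => ?_⟩
    fin_cases k
    exacts [h0.symm, h1.symm, h2.symm]

theorem point_unique {i j : Fin 21} {l m : FieldFour} (hl : l ≠ 0) (hm : m ≠ 0)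
    (h : l • vec i = m • vec j) : i = j := by
  refine line_unique i j (l⁻¹ * m) (mul_ne_zero (inv_ne_zero hl) hm) fun k => ?_
  rw [mul_assoc, ← smul_eq_mul m, ← Pi.smul_apply, ← h, Pi.smul_apply, smul_eq_mul, inv_mul_cancel_left₀ hl]

theorem exists_image (g : SL34) (i : Fin 21) :
    ∃ j : Fin 21, ∃ l : FieldFour, l ≠ 0 ∧ app g (vec i) = l • vec j := by
  refine exists_point fun h => ?_
  obtain ⟨k, hk⟩ := vec_ne i
  refine hk ?_
  have e := congrArg (app g⁻¹) h
  rw [← app_mul, inv_mul_cancel, app_one, show app g⁻¹ 0 = 0 from Matrix.mulVec_zero _] at e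
  exact congrFun e k

/-- The image of a point. -/
noncomputable def pi (g : SL34) (i : Fin 21) : Fin 21 := (exists_image g i).choose

theorem pi_spec (g : SL34) (i : Fin 21) : ∃ l : FieldFour, l ≠ 0 ∧ app g (vec i) = l • vec (pi g i) :=
  (exists_image g i).choose_spec

theorem pi_eq {g : SL34} {i j : Fin 21} {l : FieldFour} (hl : l ≠ 0) (h : app g (vec i) = l • vec j) :
    pi g i = j := by
  obtain ⟨m, hm, e⟩ := pi_spec g i
  exact point_unique hm hl (e.symm.trans h)

theorem pi_mul (g h : SL34) (i : Fin 21) : pi (g * h) i = pi g (pi h i) := by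
  obtain ⟨m, hm, e⟩ := pi_spec h i
  obtain ⟨l, hl, e'⟩ := pi_spec g (pi h i)
  refine pi_eq (mul_ne_zero hm hl) ?_
  rw [app_mul, e, app_smul, e', smul_smul]

theorem pi_one (i : Fin 21) : pi 1 i = i := pi_eq one_ne_zero (by rw [app_one, one_smul])

/-- The action on the points. -/
noncomputable def psiSL : SL34 →* Equiv.Perm (Fin 21) where
  toFun g :=
    { toFun := pi g
      invFun := pi g⁻¹
      left_inv := fun i => by rw [← pi_mul, inv_mul_cancel, pi_one]
      right_inv := fun i => by rw [← pi_mul, mul_inv_cancel, pi_one] }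
  map_one' := Equiv.ext pi_one
  map_mul' g h := Equiv.ext (pi_mul g h)

theorem eigen_of_ker {g : SL34} (hg : g ∈ psiSL.ker) {w : Fin 3 → FieldFour} (hw : w ≠ 0) :
    ∃ a : FieldFour, app g w = a • w := by
  obtain ⟨i, l, -, rfl⟩ := exists_point hw
  obtain ⟨m, -, e⟩ := pi_spec g i
  rw [show pi g i = i from Equiv.congr_fun (MonoidHom.mem_ker.1 hg) i] at e
  exact ⟨m, by rw [app_smul, e, smul_comm]⟩

theorem ker_psiSL : psiSL.ker = Subgroup.center SL34 := by
  apply le_antisymm
  · intro g hg
    have he : ∀ j : Fin 3, ∃ a : FieldFour, ∀ i, (g : Matrix (Fin 3) (Fin 3) FieldFour) i j =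
        if i = j then a else 0 := by
      intro j
      obtain ⟨a, ha⟩ := eigen_of_ker hg (w := Pi.single j 1) (fun h => by
        simpa using congrFun h j)
      refine ⟨a, fun i => ?_⟩
      have := congrFun ha i
      simpa [app, Matrix.mulVec_single_one, Pi.single_apply] using this
    choose a ha using he
    obtain ⟨b, hb⟩ := eigen_of_ker hg (w := fun _ => 1) (fun h => by simpa using congrFun h 0)
    have hab : ∀ i, a i = b := fun i => by
      have := congrFun hb i
      simpa [app, Matrix.mulVec, dotProduct, ha] using this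
    refine Subgroup.mem_center_iff.2 fun h => Matrix.SpecialLinearGroup.ext _ _ fun i j => ?_
    rw [Matrix.SpecialLinearGroup.coe_mul, Matrix.SpecialLinearGroup.coe_mul, Matrix.mul_apply,
      Matrix.mul_apply]
    simp [ha, hab, mul_comm]
  · intro g hg
    obtain ⟨r, -, hr⟩ := Matrix.SpecialLinearGroup.mem_center_iff.1 hg
    refine MonoidHom.mem_ker.2 (Equiv.ext fun i => ?_)
    have hr0 : r ≠ 0 := fun h => by
      have hd := g.2
      rw [← hr, h] at hd
      simp at hd
    refine pi_eq hr0 (funext fun k => ?_)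
    simp [app, ← hr, Matrix.mulVec_diagonal]

/-- The action of the projective group. -/
noncomputable def psi : G →* Equiv.Perm (Fin 21) := QuotientGroup.lift _ psiSL ker_psiSL.ge

theorem psi_injective : Function.Injective psi := by
  rw [← MonoidHom.ker_eq_bot_iff, Subgroup.eq_bot_iff_forall]
  intro x hx
  obtain ⟨g, rfl⟩ := QuotientGroup.mk_surjective x
  exact (QuotientGroup.eq_one_iff g).2 (ker_psiSL ▸ MonoidHom.mem_ker.2 (MonoidHom.mem_ker.1 hx))

theorem card_G : Nat.card G = 20160 := M21.card_psl FieldFour FieldFour.card_eq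

theorem commutator_G : commutator G = ⊤ := CfsgLib.Classical.psl_perfect (by simp)

/-- The generators in the special linear group. -/
noncomputable def genSL (m : Fin 2) : SL34 :=
  ⟨Matrix.of (entF m), by rw [Matrix.det_fin_three]; exact ent_det m m.2⟩

/-- The generators. -/
noncomputable def gen (m : Fin 2) : G := QuotientGroup.mk (genSL m)

theorem gen_rep (m : Fin 2) : Rep 5 21 (baseK.getD m 0) (psi (gen m)) := by
  intro i
  obtain ⟨hlt, l, hl, h⟩ := ent_moves m m.2 i
  show _ = (pi (genSL m) i : ℕ)
  rw [pi_eq (j := ⟨_, hlt⟩) hl (funext fun k => ?_)]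
  refine Eq.trans ?_ (h k)
  simp [app, genSL, Matrix.mulVec, dotProduct, Fin.sum_univ_three, mv]

theorem wordImg_psi : ∀ (w : List (Fin 2)) (i : Fin 21),
    wordImg (w.map Fin.val) i = (psi (w.map gen).prod i : ℕ)
  | [], i => by simp [wordImg]
  | m :: w, i => by
    show lk 5 (baseK.getD m 0) (wordImg (w.map Fin.val) i) = _
    rw [wordImg_psi w i, gen_rep m, List.map_cons, List.prod_cons, map_mul, Equiv.Perm.mul_apply]

/-- A word over the two letters. -/
def letters (w : List ℕ) : List (Fin 2) := w.map fun m => Fin.ofNat 2 m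

theorem letters_val {w : List ℕ} (h : (w.all fun m => Nat.blt m 2) = true) :
    (letters w).map Fin.val = w := by
  simp only [List.all_eq_true, Nat.blt_eq] at h
  rw [letters, List.map_map]
  conv_rhs => rw [← List.map_id w]
  exact List.map_congr_left fun m hm => Nat.mod_eq_of_lt (h m hm)

theorem prod_eq_one {w : List (Fin 2)} (h : allF (fun i => Nat.beq (wordImg (w.map Fin.val) i) i) 21 = true) :
    (w.map gen).prod = 1 :=
  psi_injective (Equiv.ext fun i => Fin.ext (by
    rw [map_one, Equiv.Perm.one_apply, ← wordImg_psi]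
    exact Nat.eq_of_beq_eq_true (allF_iff.1 h i i.2)))

theorem finite_G : Finite G := Nat.finite_of_card_ne_zero (by rw [card_G]; norm_num)

theorem gen_closure : Subgroup.closure (Set.range gen) = ⊤ := by
  haveI := finite_G
  set K := (Subgroup.closure (Set.range gen)).map psi with hK
  have hok := chain_ok
  have hlev : chainL = lev0 :: chainL.tail := by unfold chainL; rfl
  have hle : PermChain.grp 21 chainL ≤ K := by
    rw [PermChain.grp, Subgroup.closure_le, hlev]
    rintro _ ⟨e, he, rfl⟩
    change e ∈ lev0.gens at he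
    obtain ⟨j, hj, rfl⟩ := List.mem_iff_getElem.1 he
    obtain ⟨hlen, hall⟩ := chain_words
    have hv := List.all_eq_true.1 hall j (List.mem_range.2 (hlen ▸ hj))
    simp only [Bool.and_eq_true, allF_iff] at hv
    have hgood : PermChain.ok 21 lev0.gens[j] = true := by
      have h := hok.1
      rw [hlev] at h
      simp only [PermChain.check, Bool.and_eq_true] at h
      exact (PermChain.levelOK_iff.1 h.1).2.1 _ (List.getElem_mem hj)
    refine ⟨((letters (chainW.getD j [])).map gen).prod, ?_, ?_⟩
    · refine Subgroup.list_prod_mem _ fun x hx => ?_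
      obtain ⟨m, -, rfl⟩ := List.mem_map.1 hx
      exact Subgroup.subset_closure ⟨m, rfl⟩
    · refine Equiv.ext fun i => Fin.ext ?_
      rw [← wordImg_psi, letters_val hv.1, Nat.eq_of_beq_eq_true (hv.2 i i.2),
        List.getD_eq_getElem _ _ hj]
      exact PermChain.rep_fst hgood i
  refine Subgroup.eq_top_of_le_card _ ?_
  have h1 := Nat.card_le_card_of_injective _ (Subgroup.inclusion_injective hle)
  rw [PermChain.card_grp hok.1, hok.2] at h1
  rw [card_G, ← Subgroup.card_map_of_injective (K := Subgroup.closure (Set.range gen)) psi_injective]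
  exact h1

end CfsgLib.Schur.PSLThreeFour
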